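import Groth.Agent.WeilAlg.Smooth
import Mathlib.AlgebraicGeometry.Morphisms.Smooth
import Mathlib.AlgebraicGeometry.Morphisms.Finite
import Mathlib.AlgebraicGeometry.Morphisms.UniversallyOpen
import Mathlib.AlgebraicGeometry.Sites.Fpqc
import Mathlib.RingTheory.Flat.EquationalCriterion
import Mathlib.RingTheory.Finiteness.ModuleFinitePresentation

/-! Smooth surjective schemes over a finite locally free cover acquire sections fppf locally on the base. -/

universe u

open CategoryTheory CategoryTheory.Limits AlgebraicGeometry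
open scoped TensorProduct

noncomputable section

namespace Groth.Agent.ResTrivial

/-- Over an affine scheme a smooth surjective morphism is dominated by a smooth surjective affine scheme. -/
theorem exists_affine_cover {X : Scheme.{u}} {B' : CommRingCat.{u}} (p : X ⟶ Spec B') [Smooth p] [Surjective p] :
    ∃ (A : CommRingCat.{u}) (ψ : B' ⟶ A) (q : Spec A ⟶ X), q ≫ p = Spec.map ψ ∧ ψ.hom.Smooth ∧
      Function.Surjective (PrimeSpectrum.comap ψ.hom) := by
  classical
  obtain ⟨s, hs⟩ := isCompact_univ.elim_finite_subcover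
    (fun i : X.affineCover.I₀ => Set.range (X.affineCover.f i ≫ p))
    (fun i => (X.affineCover.f i ≫ p).isOpenMap.isOpen_range)
    (fun y _ => by
      obtain ⟨x, rfl⟩ := p.surjective y
      obtain ⟨z, hz⟩ := X.affineCover.covers x
      refine Set.mem_iUnion.mpr ⟨_, z, ?_⟩
      simp [hz])
  let W : s → Scheme.{u} := fun i => X.affineCover.X i.1
  haveI : IsAffine (∐ W) := inferInstance
  let q : ∐ W ⟶ X := Sigma.desc fun i => X.affineCover.f i.1
  haveI : Smooth (q ≫ p) := by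
    haveI : Smooth q := IsZariskiLocalAtSource.sigmaDesc (fun i => inferInstance)
    infer_instance
  have hsurj : Function.Surjective (q ≫ p) := fun y => by
    obtain ⟨i, hi⟩ := Set.mem_iUnion.mp (hs (Set.mem_univ y))
    obtain ⟨hi', z, hz⟩ := Set.mem_iUnion.mp hi
    refine ⟨Sigma.ι W ⟨i, hi'⟩ z, ?_⟩
    rw [← Scheme.Hom.comp_apply, Sigma.ι_desc_assoc]
    exact hz
  let ψ : B' ⟶ Γ(∐ W, ⊤) := Spec.preimage ((∐ W).isoSpec.inv ≫ q ≫ p)
  have hψ : Spec.map ψ = (∐ W).isoSpec.inv ≫ q ≫ p := Spec.map_preimage _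
  refine ⟨_, ψ, (∐ W).isoSpec.inv ≫ q, by rw [hψ, Category.assoc], ?_, ?_⟩
  · rw [← HasRingHomProperty.Spec_iff (P := @Smooth), hψ]
    infer_instance
  · intro y
    obtain ⟨z, hz⟩ := hsurj y
    refine ⟨(∐ W).isoSpec.hom z, ?_⟩
    show Spec.map ψ ((∐ W).isoSpec.hom z) = y
    rw [hψ, ← Scheme.Hom.comp_apply, Iso.hom_inv_id_assoc]
    exact hz

variable {S S' X : Scheme.{u}} (π : S' ⟶ S) [IsFinite π] [Flat π] [LocallyOfFinitePresentation π]
  (p : X ⟶ S') [Smooth p] [Surjective p]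

omit [IsFinite π] [Flat π] [LocallyOfFinitePresentation π] in
theorem exists_local_aux (B B' : Type u) [CommRing B] [CommRing B'] [Algebra B B'] [Module.Finite B B']
    [Module.Projective B B'] (iU : Spec (CommRingCat.of B) ⟶ S) [IsOpenImmersion iU]
    (iV : Spec (CommRingCat.of B') ⟶ S') [IsOpenImmersion iV]
    (hsq : Spec.map (CommRingCat.ofHom (algebraMap B B')) ≫ iU = iV ≫ π)
    (hpre : π ⁻¹' Set.range iU ⊆ Set.range iV) :
    ∃ (V : Scheme.{u}) (g : V ⟶ S), Flat g ∧ LocallyOfFinitePresentation g ∧ Set.range g = Set.range iU ∧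
      ∃ s : pullback g π ⟶ X, s ≫ p = pullback.snd g π := by
  obtain ⟨A, ψ, q, hq, hψ, hψs⟩ := exists_affine_cover (pullback.snd p iV)
  letI := ψ.hom.toAlgebra
  haveI : Algebra.Smooth B' A := hψ
  obtain ⟨W, _, _, ξ, _, hξ⟩ := WeilAlg.exists_rep B B' A
  -- the trivial algebra is its own Weil restriction
  let ξ₁ : B' →ₐ[B'] B' ⊗[B] B := Algebra.ofId _ _
  have h₁ : ∀ (C : Type u) [CommRing C] [Algebra B C], Function.Bijective
      (fun w : B →ₐ[B] C => (Algebra.TensorProduct.map (AlgHom.id B' B') w).comp ξ₁) :=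
    fun C _ _ => ⟨fun _ _ _ => Algebra.ext_id _ _ _, fun _ => ⟨Algebra.ofId _ _, Algebra.ext_id _ _ _⟩⟩
  have hfs : (Algebra.ofId B' A).toRingHom.Smooth := hψ
  have hgs : (Algebra.ofId B W).toRingHom.Smooth :=
    WeilAlg.map_smooth (Algebra.ofId _ _) ξ₁ ξ h₁ hξ (Algebra.ofId _ _) (Algebra.ext_id _ _ _) hfs
  have hgsurj : Function.Surjective (PrimeSpectrum.comap (Algebra.ofId B W).toRingHom) :=
    WeilAlg.map_comap_surjective (Algebra.ofId _ _) ξ₁ ξ h₁ hξ (Algebra.ofId _ _) (Algebra.ext_id _ _ _) hfs hψs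
  let g₀ : Spec (CommRingCat.of W) ⟶ Spec (CommRingCat.of B) := Spec.map (CommRingCat.ofHom (algebraMap B W))
  haveI : Smooth g₀ := (HasRingHomProperty.Spec_iff (P := @Smooth)).mpr hgs
  let g : Spec (CommRingCat.of W) ⟶ S := g₀ ≫ iU
  refine ⟨_, g, inferInstance, inferInstance, ?_, ?_⟩
  · rw [show (g : Spec (CommRingCat.of W) → S) = iU ∘ g₀ from rfl, Set.range_comp,
      show Set.range g₀ = Set.univ from hgsurj.range_eq, Set.image_univ]
  have hrange : Set.range (pullback.snd g π) ⊆ Set.range iV := by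
    rintro _ ⟨x, rfl⟩
    apply hpre
    rw [Set.mem_preimage, ← Scheme.Hom.comp_apply, ← pullback.condition, Scheme.Hom.comp_apply]
    exact ⟨g₀ (pullback.fst g π x), rfl⟩
  let b₀ : pullback g π ⟶ Spec (CommRingCat.of B') := IsOpenImmersion.lift iV (pullback.snd g π) hrange
  have hb₀ : b₀ ≫ iV = pullback.snd g π := IsOpenImmersion.lift_fac _ _ _
  let t : pullback g π ⟶ Spec (CommRingCat.of (B' ⊗[B] W)) :=
    pullback.lift b₀ (pullback.fst g π) (by
      rw [← cancel_mono iU, Category.assoc, Category.assoc, hsq, reassoc_of% hb₀]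
      exact pullback.condition.symm) ≫ (pullbackSpecIso B B' W).hom
  have ht : t ≫ Spec.map (CommRingCat.ofHom (algebraMap B' (B' ⊗[B] W))) = b₀ := by
    simp only [t, Category.assoc]
    rw [pullbackSpecIso_hom_fst']
    exact pullback.lift_fst _ _ _
  refine ⟨t ≫ Spec.map (CommRingCat.ofHom ξ.toRingHom) ≫ q ≫ pullback.fst p iV, ?_⟩
  rw [← hb₀, ← ht]
  simp only [Category.assoc]
  rw [pullback.condition, reassoc_of% hq, ← Spec.map_comp_assoc]
  rw [show ψ ≫ CommRingCat.ofHom ξ.toRingHom = CommRingCat.ofHom (algebraMap B' (B' ⊗[B] W)) from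
    CommRingCat.hom_ext (RingHom.ext fun b => ξ.commutes b)]

theorem exists_local (U : S.Opens) (hU : IsAffineOpen U) :
    ∃ (V : Scheme.{u}) (g : V ⟶ S), Flat g ∧ LocallyOfFinitePresentation g ∧ Set.range g = (U : Set S) ∧
      ∃ s : pullback g π ⟶ X, s ≫ p = pullback.snd g π := by
  have hV : IsAffineOpen (π ⁻¹ᵁ U) := hU.preimage π
  letI := (π.app U).hom.toAlgebra
  haveI : Module.Finite Γ(S, U) Γ(S', π ⁻¹ᵁ U) := π.finite_app U hU
  haveI : Algebra.FinitePresentation Γ(S, U) Γ(S', π ⁻¹ᵁ U) := by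
    have := π.finitePresentation_appLE hU hV le_rfl
    rw [← Scheme.Hom.app_eq_appLE] at this
    exact this
  haveI : Module.Flat Γ(S, U) Γ(S', π ⁻¹ᵁ U) := by
    have := π.flat_appLE hU hV le_rfl
    rw [← Scheme.Hom.app_eq_appLE] at this
    exact this
  haveI : Module.FinitePresentation Γ(S, U) Γ(S', π ⁻¹ᵁ U) :=
    Module.FinitePresentation.of_finite_of_finitePresentation _ _
  haveI : Module.Projective Γ(S, U) Γ(S', π ⁻¹ᵁ U) := Module.Flat.projective_of_finitePresentation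
  obtain ⟨V, g, h1, h2, h3, h4⟩ := exists_local_aux π p Γ(S, U) Γ(S', π ⁻¹ᵁ U) hU.fromSpec hV.fromSpec
    (by
      show Spec.map (π.app U) ≫ hU.fromSpec = _
      rw [Scheme.Hom.app_eq_appLE]
      exact hU.SpecMap_appLE_fromSpec π hV le_rfl)
    (fun x hx => by
      rw [Set.mem_preimage, hU.range_fromSpec] at hx
      rw [hV.range_fromSpec]
      exact hx)
  exact ⟨V, g, h1, h2, h3.trans hU.range_fromSpec, h4⟩

theorem exists_fppf_cover :
    ∃ R ∈ Scheme.fppfPrecoverage S, ∀ ⦃U : Scheme.{u}⦄ (g : U ⟶ S), R g →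
      ∃ s : pullback g π ⟶ X, s ≫ p = pullback.snd g π := by
  choose V g hfl hfp hr s hs using fun U : S.affineOpens => exists_local π p U.1 U.2
  refine ⟨Presieve.ofArrows V g, ?_, fun U f hf => ?_⟩
  · rw [Scheme.fppfPrecoverage, Scheme.ofArrows_mem_precoverage_iff]
    refine ⟨fun x => ?_, fun U => ⟨hfl U, hfp U⟩⟩
    obtain ⟨U, hU, hx, -⟩ := S.isBasis_affineOpens.exists_subset_of_mem_open (Set.mem_univ x) isOpen_univ
    obtain ⟨U', hU', rfl⟩ := hU
    exact ⟨⟨U', hU'⟩, by rw [hr]; exact hx⟩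
  · obtain ⟨i⟩ := hf
    exact ⟨s i, hs i⟩

end Groth.Agent.ResTrivial
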